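import Cfsg.Agent.H963.OC.MTor
import Cfsg.Agent.H546.FaPSp

/-!
# The adjoint frame of `PΩ⁻_{2m+2}(F)`: the data (S4829, own characteristic; helper963)

`wdat : WDat (MM hab hG) p p1 DS yc JJ`; `data : H928.Ad.Data` on `PΩ⁻`; `anti`.
-/

set_option autoImplicit false
set_option linter.unusedSectionVars false

namespace Cfsg.Agent.H963.OC.Minus

open Cfsg.Agent.ChevalleyStructure.CoxeterGeom Cfsg.Agent.Tits.Roots Cfsg.Agent.Nodes.TypeC
open Cfsg.Agent.Nodes.Comb Cfsg.Agent.Nodes.Reps Cfsg.Agent.Nodes.WittRoot Cfsg.Agent.Nodes.BNOf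
open Cfsg.Agent.Nodes.WittRGD Cfsg.Agent.Nodes.RGDLib Cfsg.Agent.Nodes.Bruhat
open Cfsg.Agent.TitsThree Cfsg.Agent.TitsThree.Siegel Cfsg.Agent.TitsThree.SiegelGen
  Cfsg.Agent.TitsThree.WittFrame Cfsg.Agent.TitsThree.FrameCN
  Cfsg.Agent.TitsThree.WittWeyl Cfsg.Agent.TitsThree.WBridge Cfsg.Agent.TitsThree.KSideO
open QuadraticMap
open Cfsg.Agent.LieClassical Cfsg.Agent.LieClassical.OrthCore Cfsg.Agent.LieClassical.OrthTrans
open Cfsg.Agent.LieClassical.OrthSimple Cfsg.Agent.LieClassical.OrthFinite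
open Cfsg.Agent.LieClassical.OrthForms
open Cfsg.Agent.H857.OM (KK VV FF io kap io_inl io_zero io_one io_injective io_kap io_mem kap_io Q_io polar_io adm adm_w
  adm_c adm_surj JJ JJ_mem JJ_io JJ_b JJ_JJ JJ_inv norm_eq fact_of)
open Cfsg.Agent.H553.AF
open Cfsg.Agent.H948.Ppd.Minus (Dg MM nodesD ambT_minus)
open Cfsg.Agent.H948.Ppd (TB XB)

variable {F : Type} [Field F] {m : ℕ} {a b : F}
  (hab : ∀ z₁ z₂ : F, z₁ ^ 2 + a * z₁ * z₂ + b * z₂ ^ 2 = 0 → z₁ = 0 ∧ z₂ = 0)

/-! ### the torus of `Ω⁻` -/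

theorem finite_VV [Finite F] : Finite (VV m F ≃ₗ[F] VV m F) :=
  Finite.of_injective (fun g : VV m F ≃ₗ[F] VV m F => (g : VV m F → VV m F)) DFunLike.coe_injective

include hab in
theorem dg_of_tor [Finite F] {p : ℕ} [Fact p.Prime] [CharP F p] (hm : 2 ≤ m) (hG : Good (minusForm m F a b))
    {g : VV m F ≃ₗ[F] VV m F} (hg : g ∈ Nodes.WittRGD.Tor (FF m hab) (E (minusForm m F a b))) : Dg a b g := by
  have hA := ambT_minus hab p hm hG
  have hWf : Finite (CoxeterMatrix.B m).Group := Nodes.TypeC.finite_W (CoxeterMatrix.B m).toCoxeterSystem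
  have := finite_VV (F := F) (m := m)
  have R := Cfsg.Agent.H948.Ppd.rgdB hA (Cfsg.Agent.H948.Ppd.Minus.pc_ne hab) (CoxeterMatrix.B m).toCoxeterSystem
  have hperf : commutator ↥(MM hab hG).I = ⊤ := H911.Five.commutator_top hG.E_perfect
  have hG1 := Cfsg.Agent.H948.Ppd.genB hA (by omega) hperf (CoxeterMatrix.B m).toCoxeterSystem
  have hmul : ∀ x y : (MM hab hG).I, Dg a b x.1 → Dg a b y.1 → Dg a b (x * y).1 := by
    rintro x y ⟨l, r, u, h⟩ ⟨l', r', u', h'⟩
    refine ⟨fun k => l k * l' k, fun k => r k * r' k, u * u', fun v => ⟨fun k => ?_, fun k => ?_, ?_⟩⟩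
    · change x.1 (y.1 v) _ = _
      rw [(h _).1, (h' _).1, mul_assoc]
    · change x.1 (y.1 v) _ = _
      rw [(h _).2.1, (h' _).2.1, mul_assoc]
    · change Cfsg.Agent.H948.Ppd.Minus.cz a b (x.1 (y.1 v)) = _
      rw [(h _).2.2, (h' _).2.2, mul_assoc]
  have hone : Dg a b (1 : (MM hab hG).I).1 :=
    ⟨fun _ => 1, fun _ => 1, 1, fun v => ⟨fun _ => (one_mul _).symm, fun _ => (one_mul _).symm, (one_mul _).symm⟩⟩
  have hpow : ∀ (x : (MM hab hG).I) (k : ℕ), Dg a b x.1 → Dg a b (x ^ k).1 := by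
    intro x k hx
    induction k with
    | zero => exact hone
    | succ k ih =>
      rw [pow_succ]
      exact hmul _ _ ih hx
  let S : Subgroup (MM hab hG).I :=
    { carrier := {x | Dg a b x.1}
      mul_mem' := fun {x y} hx hy => hmul x y hx hy
      one_mem' := hone
      inv_mem' := by
        intro x hx
        have h1 : x⁻¹ = x ^ (orderOf x - 1) := by
          symm
          apply eq_inv_of_mul_eq_one_left
          rw [← pow_succ, Nat.sub_add_cancel (orderOf_pos x), pow_orderOf_eq_one]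
        change Dg a b (x⁻¹).1
        rw [h1]
        exact hpow x _ hx }
  have h1 : TB (MM hab hG) ≤ S := by
    refine Cfsg.Agent.H948.Ppd.torus_ind.{0, 0} R hG1 fun i => ?_
    obtain ⟨E, i1, i2, i3, σ', h1, h2, h3⟩ := nodesD hab hG hA i
    exact ⟨E, i1, σ', h3, fun s => h2 s⟩
  exact h1 (show (⟨g, hg.1⟩ : (MM hab hG).I) ∈ TB (MM hab hG) from hg)

variable [Hab : Fact (∀ r : F, r ^ 2 ≠ -b + a * r)]

theorem io_zero_iff {z : KK a b} : io m a b z = 0 ↔ z = 0 := by
  constructor
  · intro h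
    exact io_injective (m := m) (by rw [h, map_zero])
  · rintro rfl
    exact map_zero _

include hab in
theorem tor_le [Finite F] {p : ℕ} [Fact p.Prime] [CharP F p] (hm : 2 ≤ m) (hG : Good (minusForm m F a b)) :
    Nodes.WittRGD.Tor (FF m hab) (E (minusForm m F a b)) ≤ DS hab := by
  intro g hg
  obtain ⟨l, r, u, h⟩ := dg_of_tor (p := p) hab hm hG hg
  have hO : ∀ v, minusForm m F a b (g v) = minusForm m F a b v := mem_O.1 (E_le_O hg.1)
  have hio : ∀ z : KK a b, g (io m a b z) = io m a b (u * z) := by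
    intro z
    refine ext_c (a := a) (b := b) (fun i => ?_) (fun i => ?_) ?_
    · rw [(h _).1, io_inl, io_inl, mul_zero]
    · rw [(h _).2.1, io_inl, io_inl, mul_zero]
    · exact (h _).2.2
  have hu1 : QuadraticAlgebra.norm u = 1 := by
    have h1 := hO (io m a b 1)
    rwa [hio, mul_one, Q_io, Q_io, map_one] at h1
  have hu : u ≠ 0 := by
    rintro rfl
    rw [QuadraticAlgebra.norm_zero] at hu1
    exact zero_ne_one hu1
  exact ⟨hg.2, u, hu, fun v => by rw [hO, hu1, one_mul], hio⟩

/-! ### the coordinates of the short root groups -/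

/-- the coordinates -/
noncomputable def yc : YC (FF m hab) (KK a b) where
  y := adm hab m
  inj z w h := io_injective (m := m) (by rw [← adm_w hab z, ← adm_w hab w, h])
  surj q := by
    obtain ⟨z, hz⟩ := adm_surj hab q
    exact ⟨z, hz.symm⟩
  add z w := by
    apply Frame.Adm.ext
    · rw [Frame.Adm.mul_w, adm_w, adm_w, adm_w, map_add]
    · have h1 : (adm hab m z * adm hab m w).c = (adm hab m z).c + (adm hab m w).c -
          (HO (minusForm m F a b)).ε⁻¹ * (HO (minusForm m F a b)).h (adm hab m w).w (adm hab m z).w := rfl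
      have h2 : (HO (minusForm m F a b)).h (adm hab m w).w (adm hab m z).w =
          QuadraticAlgebra.trace (w * star z) := polar_io w z
      have h3 : (HO (minusForm m F a b)).ε = 1 := rfl
      rw [h1, h2, h3, adm_c, adm_c, adm_c, Cfsg.Agent.H857.OM.norm_add, inv_one, one_mul]
      have h4 : QuadraticAlgebra.trace (w * star z) = QuadraticAlgebra.trace (z * star w) := by
        have h5 : w * star z = star (z * star w) := by rw [star_mul, star_star]
        rw [h5]
        simp only [QuadraticAlgebra.trace_def, QuadraticAlgebra.re_star, QuadraticAlgebra.im_star]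
        ring
      rw [h4]
      ring

theorem yc_y (z : KK a b) : (yc hab (m := m)).y z = adm hab m z := rfl

/-- conjugation of the short root elements -/
theorem conj_adm {k : F} {g : VV m F ≃ₗ[F] VV m F} (hg : IsSim (HO (minusForm m F a b)) k g)
    {x x' : Fin m × Bool} {l : F} (hx : g ((FF m hab).b x) = l • (FF m hab).b x') {z z' : KK a b}
    (hz : g (io m a b z) = io m a b z') (hn : QuadraticAlgebra.norm z' = k * QuadraticAlgebra.norm z) :
    g * (FF m hab).Z x (adm hab m z) * g⁻¹ = (FF m hab).Z x' (adm hab m (algebraMap F (KK a b) (k⁻¹ * l) * z')) := by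
  refine conj_Z_sim (FF m hab) hg hx _ _ ?_ ?_
  · have h1 : (HO (minusForm m F a b)).σ l = l := rfl
    rw [h1, adm_w, adm_w, hz, ← map_smul, Algebra.smul_def]
  · have h1 : (HO (minusForm m F a b)).σ l = l := rfl
    have hk := hg.ne
    rw [h1, adm_c, adm_c, map_mul, QuadraticAlgebra.norm_algebraMap, hn]
    field_simp

variable {hab}

theorem coef_ne {x x' : Fin m × Bool} {g : VV m F ≃ₗ[F] VV m F} {l : F}
    (h : g ((FF m hab).b x) = l • (FF m hab).b x') : l ≠ 0 := by
  rintro rfl
  rw [zero_smul] at h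
  exact b_ne (FF m hab) x (g.map_eq_zero_iff.1 h)

theorem alg_ne {c : F} (hc : c ≠ 0) : algebraMap F (KK a b) c ≠ 0 := fun h =>
  hc ((algebraMap F (KK a b)).injective (by rw [h, map_zero]))

theorem sim_DS {g : VV m F ≃ₗ[F] VV m F} {u : KK a b} (hu : u ≠ 0)
    (h : ∀ v, minusForm m F a b (g v) = QuadraticAlgebra.norm u * minusForm m F a b v) :
    IsSim (HO (minusForm m F a b)) (QuadraticAlgebra.norm u) g := isSim_of (norm_ne hu) h

theorem ylin {g : VV m F ≃ₗ[F] VV m F} (hg : g ∈ DS hab) : YLin (yc hab) g := by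
  obtain ⟨-, u, hu, h2, h3⟩ := hg
  intro x x' l hl
  have hl0 := coef_ne hl
  refine ⟨algebraMap F (KK a b) ((QuadraticAlgebra.norm u)⁻¹ * l) * u,
    mul_ne_zero (alg_ne (mul_ne_zero (inv_ne_zero (norm_ne hu)) hl0)) hu, fun z => ?_⟩
  rw [yc_y, yc_y, conj_adm hab (sim_DS hu h2) hl (h3 z) (map_mul _ _ _), mul_assoc]

/-- conjugation in the quadratic extension -/
noncomputable def st (a b : F) [Hab : Fact (∀ r : F, r ^ 2 ≠ -b + a * r)] : KK a b ≃+* KK a b where
  toFun z := star z
  invFun z := star z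
  left_inv z := star_star z
  right_inv z := star_star z
  map_mul' z w := by rw [star_mul, mul_comm]
  map_add' z w := star_add z w

theorem st_apply (z : KK a b) : st a b z = star z := rfl

variable (hab)

theorem nn_memE {p : ℕ} (hA : Nodes.WittAll.AmbT (FF m hab) p (E (minusForm m F a b))) (i : Fin m) :
    Nodes.WittRGD.nn (FF m hab) (p1 m hab) i ∈ E (minusForm m F a b) := Nodes.WittAll.nn_mem hA _ _

theorem ysemi {p : ℕ} (hA : Nodes.WittAll.AmbT (FF m hab) p (E (minusForm m F a b))) (i : Fin m) :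
    YSemi (yc hab) (Nodes.WittRGD.nn (FF m hab) (p1 m hab) i) := by
  have hO := mem_O.1 (E_le_O (nn_memE hab hA i))
  have hs : IsSim (HO (minusForm m F a b)) 1 (Nodes.WittRGD.nn (FF m hab) (p1 m hab) i) :=
    isSim_of one_ne_zero fun v => by rw [hO, one_mul]
  intro x x' l hl
  have hl0 := coef_ne hl
  rcases nn_io hab i with h | h
  · refine ⟨RingEquiv.refl _, algebraMap F (KK a b) l, alg_ne hl0, fun z => ?_⟩
    rw [yc_y, yc_y, conj_adm hab hs hl (h z) (one_mul _).symm, inv_one, one_mul]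
    rfl
  · refine ⟨st a b, algebraMap F (KK a b) l * -1, mul_ne_zero (alg_ne hl0) (neg_ne_zero.2 one_ne_zero), fun z => ?_⟩
    rw [yc_y, yc_y, conj_adm hab hs hl (h z) ?_, inv_one, one_mul, st_apply]
    · congr 2
      ring
    · rw [QuadraticAlgebra.norm_neg, QuadraticAlgebra.norm_star, one_mul]

variable [Finite F] {p : ℕ} [hp : Fact p.Prime] [CharP F p]

theorem cop : (Nat.card (DS (m := m) hab)).Coprime p := by
  have := finite_VV (F := F) (m := m)
  have : CharP (KK a b) p := charP_of_injective_algebraMap (QuadraticAlgebra.algebraMap_injective (R := F) (a := -b) (b := a)) p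
  rw [Nat.coprime_comm, hp.out.coprime_iff_not_dvd]
  intro hd
  obtain ⟨g, hg⟩ := exists_prime_orderOf_dvd_card' p hd
  have h1 : g ^ p = 1 := by rw [← hg]; exact pow_orderOf_eq_one g
  have h5 : g.1 ^ p = 1 := congrArg Subtype.val h1
  have h2 : g.1 = 1 := by
    refine ext_v hab (fun x => ?_) fun z => ?_
    · obtain ⟨l, hl0, hl⟩ := g.2.1 x
      have h3 : ∀ k : ℕ, (g.1 ^ k) ((FF m hab).b x) = l ^ k • (FF m hab).b x := by
        intro k
        induction k with
        | zero => rw [pow_zero, pow_zero, one_smul]; rfl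
        | succ k ih =>
          rw [pow_succ', pow_succ]
          change g.1 ((g.1 ^ k) ((FF m hab).b x)) = _
          rw [ih, map_smul, hl, smul_smul]
          rfl
      have h4 := h3 p
      rw [h5] at h4
      have h6 : (1 : F) • (FF m hab).b x = l ^ p • (FF m hab).b x := by rw [one_smul]; exact h4
      have h7 : 1 = l ^ p := smul_left_injective F (b_ne (FF m hab) x) h6
      have h8 : l = 1 := by
        have : (l - 1) ^ p = 0 := by rw [sub_pow_char, ← h7, one_pow, sub_self]
        exact sub_eq_zero.1 (eq_zero_of_pow_eq_zero this)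
      rw [hl, h8, one_smul]
      rfl
    · obtain ⟨-, u, hu, -, h3⟩ := g.2
      have h4 : ∀ k : ℕ, ∀ z : KK a b, (g.1 ^ k) (io m a b z) = io m a b (u ^ k * z) := by
        intro k
        induction k with
        | zero => intro z; rw [pow_zero, pow_zero, one_mul]; rfl
        | succ k ih =>
          intro z
          rw [pow_succ', pow_succ']
          change g.1 ((g.1 ^ k) (io m a b z)) = _
          rw [ih, h3, mul_assoc]
      have h6 := h4 p 1
      rw [h5, mul_one] at h6
      have h7 : 1 = u ^ p := io_injective (m := m) h6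
      have h8 : u = 1 := by
        have : (u - 1) ^ p = 0 := by rw [sub_pow_char, ← h7, one_pow, sub_self]
        exact sub_eq_zero.1 (eq_zero_of_pow_eq_zero this)
      rw [h3, h8, one_mul]
      rfl
  have h3 : g = 1 := Subtype.ext h2
  rw [h3, orderOf_one] at hg
  exact hp.out.one_lt.ne hg

/-- the group of similitudes is as required -/
theorem dgp (hm : 2 ≤ m) (hG : Good (minusForm m F a b)) :
    DG (FF m hab) (E (minusForm m F a b)) (p1 m hab) p (DS hab) where
  sim g hg := by
    obtain ⟨-, u, hu, h2, -⟩ := hg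
    exact ⟨_, sim_DS hu h2⟩
  mono g hg := hg.1
  ok g hg l hl v c h := by
    obtain ⟨-, u, hu, h2, h3⟩ := hg
    obtain ⟨hv, hc⟩ := h
    have hc' : c = -(minusForm m F a b) v := hc
    have e1 : io m a b (kap m a b v) = v := io_kap hab hv
    -- the multiplier
    have hlu : l = QuadraticAlgebra.norm u := by
      have h4 := hl.sim ((FF m hab).b (⟨0, by omega⟩, true)) ((FF m hab).b (⟨0, by omega⟩, false))
      have h5 := (sim_DS hu h2).sim ((FF m hab).b (⟨0, by omega⟩, true)) ((FF m hab).b (⟨0, by omega⟩, false))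
      rw [h4] at h5
      refine mul_right_cancel₀ ?_ h5
      have h6 := (FF m hab).hb_neg_self (neg ((⟨0, by omega⟩, true) : Fin m × Bool))
      rw [WittFrame.neg_neg] at h6
      have h7 : neg ((⟨0, by omega⟩, true) : Fin m × Bool) = (⟨0, by omega⟩, false) := rfl
      rw [h7] at h6
      rw [h6]
      exact (FF m hab).η_ne _
    refine ⟨?_, ?_⟩
    · rw [← e1, h3]
      exact io_mem hab _
    · change l * c = -(minusForm m F a b) (g v)
      rw [h2, hc', hlu]
      ring
  tor := tor_le (p := p) hab hm hG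
  comm g hg g' hg' := by
    obtain ⟨h1, u, -, -, h3⟩ := hg
    obtain ⟨h1', u', -, -, h3'⟩ := hg'
    refine ext_v hab (fun x => ?_) fun z => ?_
    · obtain ⟨l, -, hl⟩ := h1 x
      obtain ⟨l', -, hl'⟩ := h1' x
      change g (g' _) = g' (g _)
      rw [hl, hl']
      change g (l' • (FF m hab).b x) = g' (l • (FF m hab).b x)
      rw [map_smul, map_smul, hl, hl', smul_smul, smul_smul, mul_comm]
    · change g (g' _) = g' (g _)
      rw [h3', h3, h3, h3', mul_left_comm]
  nn i g hg := by
    have hA := ambT_minus hab p hm hG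
    have h1 := mono_nn (Fr := FF m hab) (p0 := p1 m hab) (p1_ne hab) i
    obtain ⟨hmo, u, hu, h2, h3⟩ := hg
    have hE : Nodes.WittRGD.nn (FF m hab) (p1 m hab) i ∈ E (minusForm m F a b) := nn_memE hab hA i
    have hO := mem_O.1 (E_le_O hE)
    have hO' := mem_O.1 (E_le_O (inv_mem hE))
    refine ⟨((h1.mul hmo).mul (h1.inv (sg_sg i))).congr fun x => sg_sg i x, ?_⟩
    have e : ∀ v, (Nodes.WittRGD.nn (FF m hab) (p1 m hab) i * g * (Nodes.WittRGD.nn (FF m hab) (p1 m hab) i)⁻¹) v =
        Nodes.WittRGD.nn (FF m hab) (p1 m hab) i (g ((Nodes.WittRGD.nn (FF m hab) (p1 m hab) i)⁻¹ v)) := fun _ => rfl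
    rcases nn_io hab i with h | h
    · refine ⟨u, hu, fun v => by rw [e, hO, h2, hO'], fun z => ?_⟩
      have h4 : (Nodes.WittRGD.nn (FF m hab) (p1 m hab) i)⁻¹ (io m a b z) = io m a b z := by
        conv_lhs => rw [← h z]
        exact (Nodes.WittRGD.nn (FF m hab) (p1 m hab) i).symm_apply_apply _
      rw [e, h4, h3, h]
    · refine ⟨star u, ?_, fun v => by rw [e, hO, h2, hO', QuadraticAlgebra.norm_star], fun z => ?_⟩
      · intro h5
        apply hu
        rw [← star_star u, h5, star_zero]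
      have h4 : (Nodes.WittRGD.nn (FF m hab) (p1 m hab) i)⁻¹ (io m a b z) = io m a b (-star z) := by
        have h5 := h (-star z)
        rw [star_neg, star_star, _root_.neg_neg] at h5
        rw [← h5]
        exact (Nodes.WittRGD.nn (FF m hab) (p1 m hab) i).symm_apply_apply _
      rw [e, h4, h3, h, star_mul, star_neg, star_star, mul_comm, neg_mul_eq_mul_neg, _root_.neg_neg]
  cop := cop hab

theorem fullM (hG : Good (minusForm m F a b)) : Full (MM hab hG) where
  surj := toPOmega_surjective hG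
  ker := by
    have key : ∀ k : ↥(E (minusForm m F a b)), (∀ v, ∃ c : F, k.1 v = c • v) → toPOmega hG k = 1 := by
      intro k hk
      show QuotientGroup.mk' (Subgroup.center (Cfsg.Omega F ⇑(minusForm m F a b))) (toOmega hG k) = 1
      rw [QuotientGroup.mk'_apply, QuotientGroup.eq_one_iff, Subgroup.mem_center_iff]
      intro g
      obtain ⟨g, rfl⟩ := (toOmega hG).surjective g
      rw [← map_mul, ← map_mul]
      congr 1
      apply Subtype.ext
      ext1 v
      exact Cfsg.Agent.H553.AF.PSp.comm_of_lines hk g.1 v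
    exact key

/-- **the data** -/
theorem wdat (hm : 2 ≤ m) (hG : Good (minusForm m F a b)) :
    WDat (MM hab hG) p (p1 m hab) (DS hab) (yc hab) (JJ m a) where
  full := fullM hab hG
  amb := ambT_minus hab p hm hG
  hp0 := p1_ne hab
  dg := dgp hab hm hG
  norm g hg := by
    obtain ⟨-, u, hu, h2, -⟩ := hg
    exact sim_norm (norm_ne hu) h2
  lin g hg := ylin hg
  semi i := ysemi hab (ambT_minus hab p hm hG) i
  fulA d hd := by
    have h1 : ∀ i : Fin m, ((Units.mk0 (d i) (hd i) : Fˣ) : F) * ((Units.mk0 (d i) (hd i))⁻¹ : Fˣ) =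
        QuadraticAlgebra.norm (1 : KK a b) := fun i => by rw [map_one]; simp [hd i]
    refine ⟨el (fun i => Units.mk0 (d i) (hd i)) (fun i => (Units.mk0 (d i) (hd i))⁻¹) (1 : KK a b) one_ne_zero,
      el_mem _ _ _ _ h1, ?_, fun k => el_t _ _ _ _ k, fun k q hk => ?_⟩
    · have h2 := isSim_of (norm_ne (one_ne_zero : (1 : KK a b) ≠ 0)) (el_Q _ _ _ one_ne_zero h1)
      rwa [map_one] at h2
    · obtain ⟨z, rfl⟩ := adm_surj hab q
      have h3 := el_t (hab := hab) (fun i => Units.mk0 (d i) (hd i)) (fun i => (Units.mk0 (d i) (hd i))⁻¹)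
        (1 : KK a b) one_ne_zero k
      have h2 := isSim_of (norm_ne (one_ne_zero : (1 : KK a b) ≠ 0)) (el_Q _ _ _ one_ne_zero h1)
      rw [map_one] at h2
      have h4 := conj_adm hab h2 (x := (k, true)) (x' := (k, true)) h3 (el_io _ _ (1 : KK a b) one_ne_zero z)
        (by rw [one_mul, one_mul])
      rw [h4]
      congr 2
      rw [Units.val_mk0, hk, inv_one, one_mul, map_one, one_mul, one_mul]
  fulB c hc := by
    have hu : (star c)⁻¹ ≠ (0 : KK a b) := inv_ne_zero fun h => hc (by rw [← star_star c, h, star_zero])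
    have hn := norm_ne hu
    have h1 : ∀ i : Fin m, ((1 : Fˣ) : F) * (Units.mk0 _ hn : Fˣ) = QuadraticAlgebra.norm (star c)⁻¹ :=
      fun i => by rw [Units.val_one, one_mul, Units.val_mk0]
    refine ⟨el (fun _ => 1) (fun _ => Units.mk0 _ hn) (star c)⁻¹ hu, el_mem _ _ _ _ h1, fun k => ?_, fun k z => ?_⟩
    · rw [el_t, Units.val_one, one_smul]
    · have h3 := el_t (hab := hab) (fun _ => (1 : Fˣ)) (fun _ => Units.mk0 _ hn) (star c)⁻¹ hu k
      rw [yc_y, yc_y, conj_adm hab (isSim_of hn (el_Q _ _ _ hu h1)) (x := (k, true)) (x' := (k, true)) h3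
        (el_io _ _ _ hu z) (map_mul _ _ _)]
      congr 2
      rw [Units.val_one, mul_one, ← mul_assoc]
      congr 1
      have h4 : (star c)⁻¹ * c⁻¹ = algebraMap F (KK a b) (QuadraticAlgebra.norm (star c)⁻¹) := by
        rw [QuadraticAlgebra.algebraMap_norm_eq_mul_star]
        congr 1
        have h5 : star ((star c)⁻¹) * c = 1 := by
          have h6 : star ((star c)⁻¹) * c = star ((star c)⁻¹ * star c) := by rw [star_mul, star_star, mul_comm]
          rw [h6, inv_mul_cancel₀ (fun h => hc (by rw [← star_star c, h, star_zero])), star_one]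
        exact (eq_inv_of_mul_eq_one_left h5).symm
      have hsc : star c ≠ 0 := fun h => hc (by rw [← star_star c, h, star_zero])
      rw [map_inv₀, ← h4]
      field_simp
  wn := Subgroup.mem_normalizer_iff.2 fun h => ⟨fun hh => conj_mem_E JJ_mem hh, fun hh => by
    have h1 := conj_mem_E (inv_mem (JJ_mem (m := m) (a := a) (b := b))) hh
    have e : (JJ m a)⁻¹ * (JJ m a * h * (JJ m a)⁻¹) * (JJ m a)⁻¹⁻¹ = h := by group
    rwa [e] at h1⟩
  wi := fun v w => polar_map JJ_mem v w
  wm := fun x => ⟨1, one_ne_zero, JJ_b hab x⟩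
  wy x q := by
    obtain ⟨z, rfl⟩ := adm_surj hab q
    have hs : IsSim (HO (minusForm m F a b)) 1 (JJ m a) := isSim_of one_ne_zero fun v => by
      rw [mem_O.1 JJ_mem, one_mul]
    exact ⟨_, conj_adm hab hs (JJ_b hab x) (JJ_io z) (by rw [QuadraticAlgebra.norm_star, one_mul])⟩
  w2 := ⟨1, one_ne_zero, fun v => by rw [JJ_JJ, one_smul]⟩
  wg g hg := by
    obtain ⟨hmo, u, hu, h2, h3⟩ := hg
    refine ⟨QuadraticAlgebra.norm u, norm_ne hu, ?_⟩
    have key : JJ m a * g * (JJ m a)⁻¹ = LinearEquiv.smulOfUnit (Units.mk0 _ (norm_ne hu)) * g⁻¹ := by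
      refine ext_v hab (fun x => ?_) fun z => ?_
      · obtain ⟨c, hc0, hc⟩ := hmo x
        obtain ⟨c', hc0', hc'⟩ := hmo (neg x)
        have h1 : c * c' = QuadraticAlgebra.norm u := by
          have h4 := (sim_DS hu h2).sim ((FF m hab).b x) ((FF m hab).b (neg x))
          rw [hc, hc'] at h4
          change (HO (minusForm m F a b)).h (c • (FF m hab).b x) (c' • (FF m hab).b (neg x)) = _ at h4
          rw [HForm.smul_left, HForm.smul_right, ← mul_assoc] at h4
          refine mul_right_cancel₀ (b := (HO (minusForm m F a b)).h ((FF m hab).b x) ((FF m hab).b (neg x))) ?_ h4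
          have := (FF m hab).hb_neg_self (neg x)
          rw [WittFrame.neg_neg] at this
          rw [this]
          exact (FF m hab).η_ne _
        have h5 : g⁻¹ ((FF m hab).b x) = c⁻¹ • (FF m hab).b x := by
          have h4 : g⁻¹ (g ((FF m hab).b x)) = (FF m hab).b x := g.symm_apply_apply _
          conv_rhs => rw [← h4, hc]
          rw [map_smul, smul_smul, inv_mul_cancel₀ hc0, one_smul]
          rfl
        change JJ m a (g ((JJ m a)⁻¹ ((FF m hab).b x))) = QuadraticAlgebra.norm u • g⁻¹ ((FF m hab).b x)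
        rw [JJ_inv, JJ_b, one_smul, h5, smul_smul, ← h1]
        have h6 : g ((FF m hab).b (ng x)) = c' • (FF m hab).b (ng x) := hc'
        rw [h6, map_smul, JJ_b, one_smul]
        have h7 : (FF m hab).b (ng (ng x)) = (FF m hab).b x := congrArg _ (ng_ng x)
        rw [h7]
        congr 1
        field_simp
      · have h5 : g⁻¹ (io m a b z) = io m a b (u⁻¹ * z) := by
          have h4 := h3 (u⁻¹ * z)
          rw [mul_inv_cancel_left₀ hu] at h4
          rw [← h4]
          exact g.symm_apply_apply _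
        change JJ m a (g ((JJ m a)⁻¹ (io m a b z))) = QuadraticAlgebra.norm u • g⁻¹ (io m a b z)
        rw [JJ_inv, JJ_io, h3, JJ_io, h5, ← map_smul, star_mul, star_star]
        congr 1
        rw [Algebra.smul_def, QuadraticAlgebra.algebraMap_norm_eq_mul_star]
        field_simp
    intro v
    rw [key]
    rfl

/-- **The adjoint frame of `PΩ⁻_{2m+2}(F)`.** -/
theorem data [NeZero m] (hm : 2 ≤ m) (hG : Good (minusForm m F a b))
    (hZ : Subgroup.center (Cfsg.POmega F ⇑(minusForm m F a b)) = ⊥) {W : Type*} [Group W]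
    (cs : CoxeterSystem (CoxeterMatrix.B m) W) :
    Cfsg.Agent.H928.Ad.Data cs (isCartan m) p (Cfsg.Agent.Nodes.WittModel.T (MM hab hG)) (wdat (p := p) hab hm hG).nk
      (Cfsg.Agent.Nodes.WittModel.X (MM hab hG)) (xc (MM hab hG) (yc hab)) (wdat (p := p) hab hm hG).DD :=
  (wdat (p := p) hab hm hG).data cs hZ

/-- **the anti-automorphism** -/
theorem anti [NeZero m] (hm : 2 ≤ m) (hG : Good (minusForm m F a b))
    (hZ : Subgroup.center (Cfsg.POmega F ⇑(minusForm m F a b)) = ⊥) {W : Type*} [Group W]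
    (cs : CoxeterSystem (CoxeterMatrix.B m) W) :
    ∃ φ : ↥(Cfsg.Agent.H928.Ad.Gad (wdat (p := p) hab hm hG).DD) → ↥(Cfsg.Agent.H928.Ad.Gad (wdat (p := p) hab hm hG).DD),
      (∀ g, (φ g : MulAut (Cfsg.POmega F ⇑(minusForm m F a b))) =
        (wdat (p := p) hab hm hG).om * (g : MulAut (Cfsg.POmega F ⇑(minusForm m F a b)))⁻¹ *
          ((wdat (p := p) hab hm hG).om)⁻¹) ∧
      Cfsg.Agent.H92.GG.Anti cs (isCartan m) (Cfsg.Agent.H928.Ad.Tad (wdat (p := p) hab hm hG).DD)
        (Cfsg.Agent.H928.Ad.Xad (Cfsg.Agent.Nodes.WittModel.X (MM hab hG)) (wdat (p := p) hab hm hG).DD) φ :=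
  (wdat (p := p) hab hm hG).anti cs hZ

omit hp [CharP F p] [Finite F] in
/-- the form takes all values on the anisotropic plane -/
theorem exists_h (h2 : (2 : F) ≠ 0) (t : F) : ∃ p q : (FF m hab).Adm, (HO (minusForm m F a b)).h p.w q.w = t := by
  refine ⟨adm hab m (algebraMap F (KK a b) (t / 2)), adm hab m 1, ?_⟩
  have h1 : (HO (minusForm m F a b)).h (adm hab m (algebraMap F (KK a b) (t / 2))).w (adm hab m 1).w =
      QuadraticAlgebra.trace (algebraMap F (KK a b) (t / 2) * star (1 : KK a b)) := polar_io _ 1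
  have e1 : (algebraMap F (KK a b) (t / 2)).re = t / 2 := rfl
  have e2 : (algebraMap F (KK a b) (t / 2)).im = 0 := rfl
  rw [h1, star_one, mul_one, QuadraticAlgebra.trace_def, e1, e2, mul_zero, add_zero]
  field_simp

omit hp [CharP F p] in
/-- **the nonsimple positive root groups are generated by commutators** -/
theorem commGen (h2 : (2 : F) ≠ 0) (hG : Good (minusForm m F a b)) {W : Type*} [Group W]
    (cs : CoxeterSystem (CoxeterMatrix.B m) W) :
    Cfsg.Agent.Omega.EH3.Kf.Lev.CommGen cs (isCartan m) (Cfsg.Agent.Nodes.WittModel.X (MM hab hG)) :=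
  fun _ hr h0 hs => (Omega.EH3.Kf.TwWitt.gd_of_surj (MM hab hG) (exists_h hab h2)).gen cs hr h0 hs

end Cfsg.Agent.H963.OC.Minus
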