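import Cfsg.Agent.H553.AF.PSp
import Cfsg.Agent.H857.OM.Anti
import Cfsg.Agent.H948.Ppd.PmBase
import Cfsg.Agent.H989.Gs.Semi
import Cfsg.Agent.H445.AH.ORows

/-!
# The adjoint frame of `PΩ⁻_{2m+2}(F)` (S4829, own characteristic; helper963)

`E = KK a b` the quadratic extension, `DS` the proper similitudes of the frame: diagonal on the hyperbolic part, multiplication
by `u ∈ Eˣ` on the anisotropic plane, multiplier `N(u)`.
-/

set_option autoImplicit false
set_option linter.unusedSectionVars false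

namespace Cfsg.Agent.H963.OC.Minus

open Cfsg.Agent.ChevalleyStructure.CoxeterGeom Cfsg.Agent.Tits.Roots Cfsg.Agent.Nodes.TypeC
open Cfsg.Agent.Nodes.Comb Cfsg.Agent.Nodes.Reps Cfsg.Agent.Nodes.WittRoot Cfsg.Agent.Nodes.BNOf
open Cfsg.Agent.Nodes.WittRGD Cfsg.Agent.Nodes.RGDLib Cfsg.Agent.Nodes.Bruhat
open Cfsg.Agent.TitsThree Cfsg.Agent.TitsThree.Siegel Cfsg.Agent.TitsThree.SiegelGen
  Cfsg.Agent.TitsThree.WittFrame Cfsg.Agent.TitsThree.FrameCN
  Cfsg.Agent.TitsThree.WittWeyl Cfsg.Agent.TitsThree.WBridge Cfsg.Agent.TitsThree.KSideO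
open QuadraticMap
open Cfsg.Agent.LieClassical Cfsg.Agent.LieClassical.OrthCore Cfsg.Agent.LieClassical.OrthTrans
open Cfsg.Agent.LieClassical.OrthSimple Cfsg.Agent.LieClassical.OrthFinite
open Cfsg.Agent.LieClassical.OrthForms
open Cfsg.Agent.H857.OM (KK VV FF io kap io_inl io_zero io_one io_injective io_kap io_mem kap_io Q_io polar_io adm adm_w
  adm_c adm_surj JJ JJ_mem JJ_io JJ_b JJ_JJ JJ_inv norm_eq fact_of)
open Cfsg.Agent.H553.AF

variable {F : Type} [Field F] {m : ℕ} {a b : F}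
  (hab : ∀ z₁ z₂ : F, z₁ ^ 2 + a * z₁ * z₂ + b * z₂ ^ 2 = 0 → z₁ = 0 ∧ z₂ = 0)

/-- linear maps which agree on the frame and on `V0` -/
theorem ext_v {g g' : VV m F ≃ₗ[F] VV m F} (h1 : ∀ x, g ((FF m hab).b x) = g' ((FF m hab).b x))
    (h2 : ∀ z : KK a b, g (io m a b z) = g' (io m a b z)) : g = g' := by
  ext1 v
  obtain ⟨x, y, w, hw, rfl⟩ := (wminus m F a b hab).span v
  have h3 : ∀ i, g ((wminus m F a b hab).e i) = g' ((wminus m F a b hab).e i) := fun i => h1 (i, true)
  have h4 : ∀ i, g ((wminus m F a b hab).f i) = g' ((wminus m F a b hab).f i) := fun i => h1 (i, false)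
  have h5 : g w = g' w := by
    rw [← io_kap hab hw]
    exact h2 _
  simp only [map_add, map_sum, map_smul, h3, h4, h5]

/-- a similitude of the quadratic form is a similitude of the polar form -/
theorem isSim_of {k : F} (hk : k ≠ 0) {g : VV m F ≃ₗ[F] VV m F}
    (hg : ∀ v, minusForm m F a b (g v) = k * minusForm m F a b v) : IsSim (HO (minusForm m F a b)) k g := by
  refine ⟨hk, rfl, fun v w => ?_⟩
  change polar (minusForm m F a b) (g v) (g w) = k * polar (minusForm m F a b) v w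
  rw [polar, polar, ← map_add, hg, hg, hg]
  ring

theorem conj_mem_E' {Q Q' : QuadraticForm F (VV m F)} {T : VV m F ≃ₗ[F] VV m F} (hT : ∀ v, Q (T v) = Q' v)
    {h : VV m F ≃ₗ[F] VV m F} (hh : h ∈ E Q') : T * h * T⁻¹ ∈ E Q := by
  have polar_form : ∀ u v, polar Q (T u) (T v) = polar Q' u v := fun u v => by
    rw [polar, polar, ← map_add T, hT, hT, hT]
  induction hh using Subgroup.closure_induction with
  | mem x hx =>
    obtain ⟨u, w, hu, hw, rfl⟩ := hx
    have hu' : Q (T u) = 0 := by rw [hT, hu]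
    have hw' : polar Q (T u) (T w) = 0 := by rw [polar_form, hw]
    have e : T * siegel Q' u w hu hw * T⁻¹ = siegel Q (T u) (T w) hu' hw' := by
      rw [mul_inv_eq_iff_eq_mul]
      ext1 v
      change T (siegel Q' u w hu hw v) = siegel Q (T u) (T w) hu' hw' (T v)
      rw [siegel_apply, siegel_apply, map_sub, map_sub, map_add, map_smul, map_smul, map_smul, hT, polar_form,
        polar_form]
    rw [e]
    exact siegel_mem_E hu' hw'
  | one => rw [mul_one, mul_inv_cancel]; exact (E Q).one_mem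
  | mul x y _ _ hx hy =>
    have : T * (x * y) * T⁻¹ = (T * x * T⁻¹) * (T * y * T⁻¹) := by group
    rw [this]
    exact (E Q).mul_mem hx hy
  | inv x _ hx =>
    have : T * x⁻¹ * T⁻¹ = (T * x * T⁻¹)⁻¹ := by group
    rw [this]
    exact (E Q).inv_mem hx

/-- a similitude normalises `E Q` -/
theorem sim_norm {k : F} (hk : k ≠ 0) {g : VV m F ≃ₗ[F] VV m F}
    (hg : ∀ v, minusForm m F a b (g v) = k * minusForm m F a b v) :
    g ∈ Subgroup.normalizer (E (minusForm m F a b) : Set (VV m F ≃ₗ[F] VV m F)) := by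
  have key : ∀ (k : F) (g h : VV m F ≃ₗ[F] VV m F), k ≠ 0 → (∀ v, minusForm m F a b (g v) = k * minusForm m F a b v) →
      h ∈ E (minusForm m F a b) → g * h * g⁻¹ ∈ E (minusForm m F a b) := by
    intro k g h hk hg hh
    refine conj_mem_E' (Q' := k • minusForm m F a b) (fun v => ?_) ?_
    · rw [hg]; rfl
    · rwa [Cfsg.Agent.H989.Gs.Row.E_smul hk]
  rw [Subgroup.mem_normalizer_iff]
  intro h
  refine ⟨key k g h hk hg, fun hh => ?_⟩
  have h1 := key k⁻¹ g⁻¹ _ (inv_ne_zero hk) (fun v => by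
    have h2 := hg (g⁻¹ v)
    have h3 : g (g⁻¹ v) = v := g.apply_symm_apply v
    rw [h3] at h2
    rw [h2, inv_mul_cancel_left₀ hk]) hh
  have e : g⁻¹ * (g * h * g⁻¹) * g⁻¹⁻¹ = h := by group
  rwa [e] at h1

variable [Hab : Fact (∀ r : F, r ^ 2 ≠ -b + a * r)]

/-- the proper similitudes of the frame -/
def DS : Subgroup (VV m F ≃ₗ[F] VV m F) where
  carrier := {g | Mono (FF m hab) g id ∧ ∃ u : KK a b, u ≠ 0 ∧
    (∀ v, minusForm m F a b (g v) = QuadraticAlgebra.norm u * minusForm m F a b v) ∧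
    ∀ z : KK a b, g (io m a b z) = io m a b (u * z)}
  one_mem' := ⟨Mono.one, 1, one_ne_zero, fun v => by rw [map_one, one_mul]; rfl, fun z => by rw [one_mul]; rfl⟩
  mul_mem' := by
    rintro g g' ⟨h1, u, hu, h2, h3⟩ ⟨h1', u', hu', h2', h3'⟩
    refine ⟨h1.mul h1', u * u', mul_ne_zero hu hu', fun v => ?_, fun z => ?_⟩
    · change minusForm m F a b (g (g' v)) = _
      rw [h2, h2', map_mul, mul_assoc]
    · change g (g' _) = _
      rw [h3', h3, mul_assoc]
  inv_mem' := by
    rintro g ⟨h1, u, hu, h2, h3⟩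
    refine ⟨h1.inv fun _ => rfl, u⁻¹, inv_ne_zero hu, fun v => ?_, fun z => ?_⟩
    · have h4 := h2 (g⁻¹ v)
      have h5 : g (g⁻¹ v) = v := g.apply_symm_apply v
      rw [h5] at h4
      rw [h4, ← mul_assoc, ← map_mul, inv_mul_cancel₀ hu, map_one, one_mul]
    · have h4 := h3 (u⁻¹ * z)
      rw [mul_inv_cancel_left₀ hu] at h4
      rw [← h4]
      exact g.symm_apply_apply _

variable {hab}

theorem norm_ne {u : KK a b} (hu : u ≠ 0) : QuadraticAlgebra.norm u ≠ 0 := fun h =>
  hu (QuadraticAlgebra.norm_eq_zero_iff_eq_zero.1 h)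

/-! ### construction of elements -/

/-- the element with coefficients `d`, `c`, `u` -/
def el (d c : Fin m → Fˣ) (u : KK a b) (hu : u ≠ 0) : VV m F ≃ₗ[F] VV m F where
  toFun v := Sum.elim (Sum.elim (fun i => d i * v (Sum.inl (Sum.inl i))) (fun i => c i * v (Sum.inl (Sum.inr i))))
    ![(u * kap m a b v).re, (u * kap m a b v).im]
  map_add' v w := by
    funext j
    rcases j with (j | j) | j
    · simp only [Sum.elim_inl, Pi.add_apply]; ring
    · simp only [Sum.elim_inl, Sum.elim_inr, Pi.add_apply]; ring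
    · fin_cases j <;> simp [map_add, mul_add]
  map_smul' t v := by
    funext j
    rcases j with (j | j) | j
    · simp only [Sum.elim_inl, Pi.smul_apply, smul_eq_mul, RingHom.id_apply]; ring
    · simp only [Sum.elim_inl, Sum.elim_inr, Pi.smul_apply, smul_eq_mul, RingHom.id_apply]; ring
    · have h1 : u * kap m a b (t • v) = t • (u * kap m a b v) := by rw [map_smul, mul_smul_comm]
      fin_cases j <;> simp only [h1] <;> simp
  invFun v := Sum.elim (Sum.elim (fun i => ((d i)⁻¹ : Fˣ) * v (Sum.inl (Sum.inl i)))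
      (fun i => ((c i)⁻¹ : Fˣ) * v (Sum.inl (Sum.inr i))))
    ![(u⁻¹ * kap m a b v).re, (u⁻¹ * kap m a b v).im]
  left_inv v := by
    funext j
    rcases j with (j | j) | j
    · simp
    · simp
    · have h1 : u⁻¹ * kap m a b (Sum.elim (Sum.elim (fun i => (d i : F) * v (Sum.inl (Sum.inl i)))
          (fun i => (c i : F) * v (Sum.inl (Sum.inr i)))) ![(u * kap m a b v).re, (u * kap m a b v).im]) = kap m a b v := by
        have h2 : kap m a b (Sum.elim (Sum.elim (fun i => (d i : F) * v (Sum.inl (Sum.inl i)))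
          (fun i => (c i : F) * v (Sum.inl (Sum.inr i)))) ![(u * kap m a b v).re, (u * kap m a b v).im]) =
            u * kap m a b v := rfl
        rw [h2, inv_mul_cancel_left₀ hu]
      fin_cases j
      · exact congrArg QuadraticAlgebra.re h1
      · exact congrArg QuadraticAlgebra.im h1
  right_inv v := by
    funext j
    rcases j with (j | j) | j
    · simp
    · simp
    · have h1 : u * kap m a b (Sum.elim (Sum.elim (fun i => (((d i)⁻¹ : Fˣ) : F) * v (Sum.inl (Sum.inl i)))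
          (fun i => (((c i)⁻¹ : Fˣ) : F) * v (Sum.inl (Sum.inr i)))) ![(u⁻¹ * kap m a b v).re, (u⁻¹ * kap m a b v).im]) =
            kap m a b v := by
        have h2 : kap m a b (Sum.elim (Sum.elim (fun i => (((d i)⁻¹ : Fˣ) : F) * v (Sum.inl (Sum.inl i)))
          (fun i => (((c i)⁻¹ : Fˣ) : F) * v (Sum.inl (Sum.inr i)))) ![(u⁻¹ * kap m a b v).re, (u⁻¹ * kap m a b v).im]) =
            u⁻¹ * kap m a b v := rfl
        rw [h2, mul_inv_cancel_left₀ hu]
      fin_cases j
      · exact congrArg QuadraticAlgebra.re h1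
      · exact congrArg QuadraticAlgebra.im h1

theorem kap_el (d c : Fin m → Fˣ) (u : KK a b) (hu : u ≠ 0) (v : VV m F) :
    kap m a b (el d c u hu v) = u * kap m a b v := rfl

theorem el_ll (d c : Fin m → Fˣ) (u : KK a b) (hu : u ≠ 0) (v : VV m F) (i : Fin m) :
    el d c u hu v (Sum.inl (Sum.inl i)) = d i * v (Sum.inl (Sum.inl i)) := rfl

theorem el_lr (d c : Fin m → Fˣ) (u : KK a b) (hu : u ≠ 0) (v : VV m F) (i : Fin m) :
    el d c u hu v (Sum.inl (Sum.inr i)) = c i * v (Sum.inl (Sum.inr i)) := rfl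

/-- vectors with the same coordinates -/
theorem ext_c {v w : VV m F} (h1 : ∀ i, v (Sum.inl (Sum.inl i)) = w (Sum.inl (Sum.inl i)))
    (h2 : ∀ i, v (Sum.inl (Sum.inr i)) = w (Sum.inl (Sum.inr i))) (h3 : kap m a b v = kap m a b w) : v = w := by
  funext j
  rcases j with (j | j) | j
  · exact h1 j
  · exact h2 j
  · fin_cases j
    · exact congrArg QuadraticAlgebra.re h3
    · exact congrArg QuadraticAlgebra.im h3

theorem el_io (d c : Fin m → Fˣ) (u : KK a b) (hu : u ≠ 0) (z : KK a b) :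
    el d c u hu (io m a b z) = io m a b (u * z) := by
  refine ext_c (a := a) (b := b) (fun i => ?_) (fun i => ?_) ?_
  · rw [el_ll, io_inl, io_inl, mul_zero]
  · rw [el_lr, io_inl, io_inl, mul_zero]
  · rw [kap_el, kap_io, kap_io]

theorem kap_b (x : Fin m × Bool) : kap m a b ((FF m hab).b x) = 0 := by
  obtain ⟨i, s⟩ := x
  cases s
  · have e2 : (FF m hab).b (i, false) = Pi.single (Sum.inl (Sum.inr i)) 1 := rfl
    rw [e2]
    ext <;> simp [kap]
  · have e1 : (FF m hab).b (i, true) = Pi.single (Sum.inl (Sum.inl i)) 1 := rfl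
    rw [e1]
    ext <;> simp [kap]

theorem el_t (d c : Fin m → Fˣ) (u : KK a b) (hu : u ≠ 0) (i : Fin m) :
    el d c u hu ((FF m hab).b (i, true)) = (d i : F) • (FF m hab).b (i, true) := by
  have e1 : (FF m hab).b (i, true) = Pi.single (Sum.inl (Sum.inl i)) 1 := rfl
  refine ext_c (a := a) (b := b) (fun j => ?_) (fun j => ?_) ?_
  · rw [el_ll, Pi.smul_apply, smul_eq_mul, e1]
    by_cases h : j = i
    · subst h; rfl
    · rw [Pi.single_eq_of_ne (by simpa using h), mul_zero, mul_zero]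
  · rw [el_lr, Pi.smul_apply, smul_eq_mul, e1, Pi.single_eq_of_ne (by simp), mul_zero, mul_zero]
  · rw [kap_el, map_smul, kap_b, mul_zero, smul_zero]

theorem el_f (d c : Fin m → Fˣ) (u : KK a b) (hu : u ≠ 0) (i : Fin m) :
    el d c u hu ((FF m hab).b (i, false)) = (c i : F) • (FF m hab).b (i, false) := by
  have e1 : (FF m hab).b (i, false) = Pi.single (Sum.inl (Sum.inr i)) 1 := rfl
  refine ext_c (a := a) (b := b) (fun j => ?_) (fun j => ?_) ?_
  · rw [el_ll, Pi.smul_apply, smul_eq_mul, e1, Pi.single_eq_of_ne (by simp), mul_zero, mul_zero]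
  · rw [el_lr, Pi.smul_apply, smul_eq_mul, e1]
    by_cases h : j = i
    · subst h; rfl
    · rw [Pi.single_eq_of_ne (by simpa using h), mul_zero, mul_zero]
  · rw [kap_el, map_smul, kap_b, mul_zero, smul_zero]

theorem Q_eq (v : VV m F) : minusForm m F a b v =
    ∑ i : Fin m, v (Sum.inl (Sum.inl i)) * v (Sum.inl (Sum.inr i)) + QuadraticAlgebra.norm (kap m a b v) := by
  rw [coe_minusForm, quadFormMinus_apply, norm_eq]
  change _ = _ + (v (Sum.inr 0) ^ 2 + a * v (Sum.inr 0) * v (Sum.inr 1) + b * v (Sum.inr 1) ^ 2)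
  ring

theorem el_Q (d c : Fin m → Fˣ) (u : KK a b) (hu : u ≠ 0) (h : ∀ i, (d i : F) * c i = QuadraticAlgebra.norm u)
    (v : VV m F) : minusForm m F a b (el d c u hu v) = QuadraticAlgebra.norm u * minusForm m F a b v := by
  rw [Q_eq, Q_eq, mul_add, kap_el, map_mul, Finset.mul_sum]
  congr 1
  refine Finset.sum_congr rfl fun i _ => ?_
  rw [el_ll, el_lr, ← h i]
  ring

theorem el_mem (d c : Fin m → Fˣ) (u : KK a b) (hu : u ≠ 0) (h : ∀ i, (d i : F) * c i = QuadraticAlgebra.norm u) :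
    el d c u hu ∈ DS hab := by
  refine ⟨?_, u, hu, el_Q d c u hu h, el_io d c u hu⟩
  rintro ⟨i, s⟩
  cases s
  · exact ⟨c i, (c i).ne_zero, el_f d c u hu i⟩
  · exact ⟨d i, (d i).ne_zero, el_t d c u hu i⟩

/-! ### the Weyl elements on `V0` -/

variable (hab)

/-- the admissible pair -/
noncomputable def p1 (m : ℕ) {a b : F}
    (hab : ∀ z₁ z₂ : F, z₁ ^ 2 + a * z₁ * z₂ + b * z₂ ^ 2 = 0 → z₁ = 0 ∧ z₂ = 0) : (FF m hab).Adm := adm hab m 1

theorem p1_c : (p1 m hab).c = -1 := by
  rw [p1, adm_c, map_one]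

theorem p1_ne : (p1 m hab).c ≠ 0 := by
  rw [p1_c]
  exact neg_ne_zero.2 one_ne_zero

theorem nn_io (i : Fin m) : (∀ z : KK a b, Nodes.WittRGD.nn (FF m hab) (p1 m hab) i (io m a b z) = io m a b z) ∨
    ∀ z : KK a b, Nodes.WittRGD.nn (FF m hab) (p1 m hab) i (io m a b z) = io m a b (-star z) := by
  by_cases hi : (i : ℕ) + 1 < m
  · left
    intro z
    have e : Nodes.WittRGD.nn (FF m hab) (p1 m hab) i = nX (FF m hab) (i, true) (nx i) 1 := by unfold Nodes.WittRGD.nn; rw [if_pos hi]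
    rw [e]
    have hnx : ((i, true) : Fin m × Bool).1 ≠ (nx i).1 := by
      unfold nx; rw [dif_pos hi]; simp [Fin.ext_iff]
    exact nX_apply_V0 (FF m hab) hnx (io_mem hab z) 1
  · right
    intro z
    have e : Nodes.WittRGD.nn (FF m hab) (p1 m hab) i = nZ (FF m hab) (i, true) (p1 m hab) := by unfold Nodes.WittRGD.nn; rw [if_neg hi]
    rw [e, nZ_apply_V0 (FF m hab) (i, true) (p1 m hab) (p1_ne hab) (io_mem hab z)]
    have h1 : (HO (minusForm m F a b)).h (io m a b z) (p1 m hab).w = QuadraticAlgebra.trace (z * star (1 : KK a b)) :=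
      polar_io z 1
    have h2 : (p1 m hab).w = io m a b 1 := adm_w hab 1
    have h3 : (HO (minusForm m F a b)).ε = 1 := rfl
    rw [h1, h2, h3, p1_c, star_one, mul_one, ← map_smul, ← map_add]
    congr 1
    ext
    · simp [QuadraticAlgebra.trace_def, QuadraticAlgebra.re_star, QuadraticAlgebra.re_one]
      ring
    · simp [QuadraticAlgebra.trace_def, QuadraticAlgebra.im_star, QuadraticAlgebra.im_one]

end Cfsg.Agent.H963.OC.Minus
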